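import Groth.Agent.H6.PuncturedDT

/-!
# Hartogs for flat modules: the `Spec` level (helper71)

If `R → Γ(U, O)` is bijective for the open `U = D(a)` of `Spec R` (`R` Noetherian) and `M` is a flat
`R`-module, then `M → Γ(U, M~)` is bijective.  The proof uses the equational criterion of flatness.
-/

set_option autoImplicit false
universe u

namespace Groth.Agent.H71.FlatHartogs

open AlgebraicGeometry CategoryTheory Opposite TopologicalSpace
open Groth.Agent.H6.PuncturedSections Groth.Agent.H6.PuncturedDT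

variable {R : Type u} [CommRing R] {M : Type u} [AddCommGroup M] [Module R M]

/-- Gluing "fractions" `m i / b i` with `b j • m i = b i • m j` to a section over an open covered by
the `D (b i)`. -/
theorem exists_sec_of_compatible {ι : Type*} (W : (Spec (CommRingCat.of R)).Opens) (b : ι → R)
    (hle : ∀ i, D (b i) ≤ W) (hcov : W ≤ ⨆ i, D (b i)) (m : ι → M)
    (hm : ∀ i j, b j • m i = b i • m j) :
    ∃ s : Sec M W, ∀ i, b i • s = toO M W (m i) := by
  have hex : ∀ i, ∃ y : Sec M (D (b i)), b i • y = toO M (D (b i)) (m i) :=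
    fun i => exists_smul_eq_basic (b i) _
  choose y hy using hex
  have hc : ∀ i j, res M (inf_le_left : D (b i) ⊓ D (b j) ≤ D (b i)) (y i) =
      res M (inf_le_right : D (b i) ⊓ D (b j) ≤ D (b j)) (y j) := by
    intro i j
    apply isSMulRegular_sec (M := M) (inf_le_left : D (b i) ⊓ D (b j) ≤ D (b i))
    apply isSMulRegular_sec (M := M) (inf_le_right : D (b i) ⊓ D (b j) ≤ D (b j))
    show b j • b i • res M _ (y i) = b j • b i • res M _ (y j)
    rw [← map_smul, hy, res_toO, ← map_smul, smul_comm (b j) (b i), ← map_smul (res M _),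
      hy, res_toO, ← map_smul, hm i j]
  obtain ⟨s, hs⟩ := sec_glue W (fun i => D (b i)) hle hcov y hc
  refine ⟨s, fun i => ?_⟩
  refine sec_ext W (fun j => D (b j)) hle hcov _ _ (fun j => ?_)
  rw [map_smul, hs, res_toO]
  apply isSMulRegular_sec (M := M) (le_refl (D (b j)))
  show b j • b i • y j = b j • toO M (D (b j)) (m i)
  rw [smul_comm, hy, ← map_smul, ← map_smul, hm i j]

section Noeth
variable [IsNoetherianRing R] (a : Ideal R)

/-- If `R → Γ(U, O)` is injective, an element of `R` killed by a power of `a` vanishes. -/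
theorem eq_zero_of_pow_mul_eq_zero (hR : Function.Injective (toO R (LocCoh.puncturedOpen R a)))
    (r : R) (n : ℕ) (h : ∀ b ∈ a ^ n, b * r = 0) : r = 0 := by
  apply hR
  rw [map_zero]
  exact (toO_eq_zero_iff_punctured a r).mpr ⟨n, fun b hb => by rw [smul_eq_mul, h b hb]⟩

/-- Injectivity of `M → Γ(U, M~)` for flat `M`. -/
theorem toO_injective_of_flat (hR : Function.Injective (toO R (LocCoh.puncturedOpen R a)))
    [Module.Flat R M] : Function.Injective (toO M (LocCoh.puncturedOpen R a)) := by
  rw [injective_iff_map_eq_zero]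
  intro m hm
  obtain ⟨n, hn⟩ := (toO_eq_zero_iff_punctured a m).mp hm
  let x : R →ₗ[R] M := LinearMap.toSpanSingleton R M m
  let f : (a ^ n : Ideal R) →ₗ[R] R := Submodule.subtype _
  have hxf : x ∘ₗ f = 0 := by
    ext ⟨b, hb⟩
    simp [x, f, hn b hb]
  haveI : Module.Finite R (a ^ n : Ideal R) := Module.IsNoetherian.finite R _
  obtain ⟨k, α, y, hxy, hαf⟩ := Module.Flat.exists_factorization_of_comp_eq_zero_of_free hxf
  have hα1 : α 1 = 0 := by
    ext c
    rw [Finsupp.zero_apply]
    apply eq_zero_of_pow_mul_eq_zero a hR _ n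
    intro b hb
    have h1 : α b = 0 := LinearMap.congr_fun hαf ⟨b, hb⟩
    have h2 : b • α 1 = 0 := by rw [← map_smul, smul_eq_mul, mul_one, h1]
    have h3 := DFunLike.congr_fun h2 c
    simpa using h3
  have : m = x 1 := by simp [x]
  rw [this, hxy, LinearMap.comp_apply, hα1, map_zero]

omit [IsNoetherianRing R] in
/-- Exactness of `R → R^k → R^(k×k)` at the `R` level, from bijectivity of `R → Γ(U, O)`. -/
theorem exists_eq_mul_of_compatible (hR : Function.Bijective (toO R (LocCoh.puncturedOpen R a)))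
    {ι : Type*} (b : ι → R) (hle : ∀ i, D (b i) ≤ LocCoh.puncturedOpen R a)
    (hcov : LocCoh.puncturedOpen R a ≤ ⨆ i, D (b i)) (r : ι → R)
    (hr : ∀ i j, b j * r i = b i * r j) : ∃ ρ : R, ∀ i, r i = b i * ρ := by
  obtain ⟨s, hs⟩ := exists_sec_of_compatible (M := R) _ b hle hcov r hr
  obtain ⟨ρ, rfl⟩ := hR.2 s
  refine ⟨ρ, fun i => ?_⟩
  apply hR.1
  rw [← hs i, ← map_smul, smul_eq_mul]

/-- Surjectivity of `M → Γ(U, M~)` for flat `M`. -/
theorem toO_surjective_of_flat (hR : Function.Bijective (toO R (LocCoh.puncturedOpen R a)))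
    [Module.Flat R M] : Function.Surjective (toO M (LocCoh.puncturedOpen R a)) := by
  classical
  intro t
  have hinj : Function.Injective (toO M (LocCoh.puncturedOpen R a)) :=
    toO_injective_of_flat a hR.1
  obtain ⟨n, hn⟩ := exists_pow_smul_mem_range a t
  obtain ⟨bs, hbs⟩ := (IsNoetherian.noetherian (a ^ (n + 1)) : (a ^ (n + 1)).FG)
  have hmem : ∀ i : bs, (i : R) ∈ a ^ (n + 1) := fun i => hbs ▸ Submodule.subset_span i.2
  have hmem_n : ∀ i : bs, (i : R) ∈ a ^ n :=
    fun i => Ideal.pow_le_pow_right (Nat.le_succ n) (hmem i)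
  have hmem_a : ∀ i : bs, (i : R) ∈ a :=
    fun i => Ideal.pow_le_self (Nat.succ_ne_zero n) (hmem i)
  have hle : ∀ i : bs, D (i : R) ≤ LocCoh.puncturedOpen R a :=
    fun i => D_le_puncturedOpen (hmem_a i)
  have hcov : LocCoh.puncturedOpen R a ≤ ⨆ i : bs, D (i : R) := by
    intro x hx
    obtain ⟨f, hf, hxf⟩ := mem_puncturedOpen.mp hx
    rw [mem_D] at hxf
    by_contra hcon
    have hall : ∀ i : bs, (i : R) ∈ x.asIdeal := by
      intro i
      by_contra hi
      exact hcon (Opens.mem_iSup.mpr ⟨i, mem_D.mpr hi⟩)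
    have hsub : a ^ (n + 1) ≤ x.asIdeal := by
      rw [← hbs, Ideal.span_le]
      intro c hc
      exact hall ⟨c, hc⟩
    have : f ^ (n + 1) ∈ x.asIdeal := hsub (Ideal.pow_mem_pow hf (n + 1))
    exact hxf (x.isPrime.mem_of_pow_mem _ this)
  have hex : ∀ i : bs, ∃ m : M, toO M (LocCoh.puncturedOpen R a) m = (i : R) • t :=
    fun i => hn (i : R) (hmem_n i)
  choose m hm using hex
  have hrel : ∀ i j : bs, (j : R) • m i = (i : R) • m j := by
    intro i j
    apply hinj
    rw [map_smul, map_smul, hm, hm, smul_comm]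
  let x : (bs →₀ R) →ₗ[R] M := Finsupp.linearCombination R m
  let K : Submodule R (bs →₀ R) := Submodule.span R (Set.range fun p : bs × bs =>
    Finsupp.single p.1 (p.2 : R) - Finsupp.single p.2 (p.1 : R))
  have hKx : K ≤ LinearMap.ker x := by
    rw [Submodule.span_le]
    rintro _ ⟨p, rfl⟩
    simp only [SetLike.mem_coe, LinearMap.mem_ker, map_sub, x, Finsupp.linearCombination_single]
    rw [sub_eq_zero]
    exact hrel p.1 p.2
  have hxK : x ∘ₗ K.subtype = 0 := by
    ext ⟨k, hk⟩
    exact hKx hk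
  haveI : Module.Finite R K := Module.Finite.span_of_finite R (Set.finite_range _)
  obtain ⟨k, α, y, hxy, hαK⟩ := Module.Flat.exists_factorization_of_comp_eq_zero_of_free
    (R := R) (M := M) (K := K) (N := (bs →₀ R)) (f := K.subtype) (x := x) hxK
  have hαrel : ∀ (c : Fin k) (i j : bs),
      (j : R) * α (Finsupp.single i 1) c = (i : R) * α (Finsupp.single j 1) c := by
    intro c i j
    have h0 : α (Finsupp.single i (j : R) - Finsupp.single j (i : R)) = 0 :=
      LinearMap.congr_fun hαK ⟨_, Submodule.subset_span ⟨(i, j), rfl⟩⟩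
    rw [map_sub, ← Finsupp.smul_single_one i, ← Finsupp.smul_single_one j, map_smul, map_smul,
      sub_eq_zero] at h0
    have h1 := DFunLike.congr_fun h0 c
    simpa using h1
  have hρ : ∀ c : Fin k, ∃ ρ : R, ∀ i : bs, α (Finsupp.single i 1) c = (i : R) * ρ :=
    fun c => exists_eq_mul_of_compatible a hR (fun i : bs => (i : R)) hle hcov
      (fun i => α (Finsupp.single i 1) c) (fun i j => hαrel c i j)
  choose ρ hρ using hρ
  let m0 : M := ∑ c, ρ c • y (Finsupp.single c 1)
  have hm0 : ∀ i : bs, (i : R) • m0 = m i := by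
    intro i
    have h1 : (i : R) • m0 = ∑ c, (α (Finsupp.single i 1) c) • y (Finsupp.single c 1) := by
      simp only [m0, Finset.smul_sum, smul_smul, hρ]
    have h2 : ∑ c, (α (Finsupp.single i 1) c) • y (Finsupp.single c 1) =
        y (α (Finsupp.single i 1)) := by
      conv_rhs => rw [← Finsupp.univ_sum_single (α (Finsupp.single i 1))]
      rw [map_sum]
      refine Finset.sum_congr rfl (fun c _ => ?_)
      have hsm : (Finsupp.single c (α (Finsupp.single i 1) c) : Fin k →₀ R) =
          (α (Finsupp.single i 1) c) • Finsupp.single c (1 : R) :=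
        (Finsupp.smul_single_one c _).symm
      rw [hsm, map_smul]
    have h3 : y (α (Finsupp.single i 1)) = x (Finsupp.single i 1) := by
      rw [hxy]; rfl
    rw [h1, h2, h3]
    simp [x, Finsupp.linearCombination_single]
  refine ⟨m0, ?_⟩
  symm
  rw [← sub_eq_zero]
  apply eq_zero_of_pow_smul_eq_zero a (le_refl _) _ (n + 1)
  intro b hb
  rw [← hbs] at hb
  refine Submodule.span_induction (p := fun b _ => b • (t - toO M (LocCoh.puncturedOpen R a) m0) = 0)
    ?_ ?_ ?_ ?_ hb
  · intro c hc
    have := hm0 ⟨c, hc⟩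
    have h4 := hm ⟨c, hc⟩
    simp only at this h4
    rw [smul_sub, ← map_smul, this, h4, sub_self]
  · exact zero_smul _ _
  · intro c d _ _ hc hd
    rw [add_smul, hc, hd, add_zero]
  · intro r c _ hc
    rw [smul_eq_mul, mul_smul, hc, smul_zero]

/-- **Hartogs for flat modules on `Spec R`**: if `R → Γ(D(a), O)` is bijective and `M` is flat then
`M → Γ(D(a), M~)` is bijective. -/
theorem toO_bijective_of_flat_punctured
    (hR : Function.Bijective (toO R (LocCoh.puncturedOpen R a)))
    [Module.Flat R M] : Function.Bijective (toO M (LocCoh.puncturedOpen R a)) :=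
  ⟨toO_injective_of_flat a hR.1, toO_surjective_of_flat a hR⟩

/-- The same for an arbitrary open of `Spec R`. -/
theorem toO_bijective_of_flat (V : (Spec (CommRingCat.of R)).Opens)
    (hR : Function.Bijective (toO R V)) (M : Type u) [AddCommGroup M] [Module R M]
    [Module.Flat R M] : Function.Bijective (toO M V) := by
  let S : Set (PrimeSpectrum R) := V.1
  have hVc : IsClosed Sᶜ := V.2.isClosed_compl
  have hz : PrimeSpectrum.zeroLocus ((PrimeSpectrum.vanishingIdeal Sᶜ : Ideal R) : Set R) = Sᶜ := by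
    rw [PrimeSpectrum.zeroLocus_vanishingIdeal_eq_closure, hVc.closure_eq]
  have hV : V = LocCoh.puncturedOpen R (PrimeSpectrum.vanishingIdeal Sᶜ) := by
    apply TopologicalSpace.Opens.ext
    show S = (PrimeSpectrum.zeroLocus _)ᶜ
    rw [hz, compl_compl]
  rw [hV] at hR ⊢
  exact toO_bijective_of_flat_punctured _ hR

end Noeth

end Groth.Agent.H71.FlatHartogs
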