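import Groth.Agent.H71.FlatHartogs.Alg
import Groth.Agent.H6.HartogsAdj
import Groth.Agent.H6.NormalDepth
import Groth.Agent.H71.QCoh.FlatSections
import Groth.Prelude.Def_Pi1

/-!
# Hartogs for flat quasi-coherent modules (helper71)

On a locally Noetherian scheme `X` with `depth O_{X,x} ≥ 2` off an open `U`, for a flat
quasi-coherent module `F` (not necessarily of finite type) the unit `F ⟶ j_* j^* F` is an isomorphism.
-/

set_option autoImplicit false
set_option linter.style.haveILetI false
universe u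

namespace Groth.Agent.H71.FlatHartogs

open AlgebraicGeometry CategoryTheory Opposite TopologicalSpace
open Groth.Agent.H6.PuncturedSections Groth.Agent.H6.PuncturedDT Groth.Agent.H6.PuncturedDepth
open Groth.Agent.H6 Groth.Agent.H6.HartogsMod

/-- `B → Γ(V, O_{Spec B})` is bijective under the Hartogs depth condition. -/
theorem toO_ring_bijective_of_depth (B : Type u) [CommRing B] [IsNoetherianRing B]
    (V : (Spec (CommRingCat.of B)).Opens)
    (h : ∀ p : PrimeSpectrum B, (p : (Spec (CommRingCat.of B) : Type u)) ∉ V →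
      (2 : ℕ∞) ≤ LocCoh.depth (Localization.AtPrime p.asIdeal) (Localization.AtPrime p.asIdeal)) :
    Function.Bijective (toO B V) := by
  rw [← bijective_ρ_iff]
  haveI := Hartogs.isIso_res_of_depth B V h le_top
  have h1 : IsIso ((Scheme.ΓSpecIso (CommRingCat.of B)).inv ≫
      (Spec (CommRingCat.of B)).presheaf.map (homOfLE (le_top : V ≤ ⊤)).op) := inferInstance
  exact (ConcreteCategory.isIso_iff_bijective _).mp h1

/-- Hartogs for a flat quasi-coherent module over an affine open. -/
theorem bijective_res_affine_flat (X : Scheme.{u}) [IsLocallyNoetherian X] (F : X.Modules)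
    [F.IsQuasicoherent] (hFl : FlatMod.IsFlat F) (U : X.Opens)
    (hU : ∀ x : ↥X, x ∉ U → (2 : ℕ∞) ≤ LocCoh.depth (X.presheaf.stalk x) (X.presheaf.stalk x))
    (W : X.Opens) (hW : IsAffineOpen W) (W' : X.Opens) (hW' : W' = W ⊓ U) (hle : W' ≤ W) :
    Function.Bijective (F.presheaf.map (homOfLE hle).op) := by
  haveI hN : IsNoetherianRing Γ(X, W) := IsLocallyNoetherian.component_noetherian ⟨W, hW⟩
  let G := F.restrict hW.fromSpec
  let U' : (Spec Γ(X, W)).Opens := hW.fromSpec ⁻¹ᵁ U
  have hd : ∀ p : PrimeSpectrum Γ(X, W), (p : (Spec Γ(X, W) : Type u)) ∉ U' →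
      (2 : ℕ∞) ≤ LocCoh.depth (Localization.AtPrime p.asIdeal)
        (Localization.AtPrime p.asIdeal) := by
    intro p hp
    rw [Hartogs.depth_localization_eq_depth_stalk X W hW p]
    exact hU _ hp
  have hR : Function.Bijective (toO (R := Γ(X, W)) Γ(X, W) U') :=
    toO_ring_bijective_of_depth Γ(X, W) U' hd
  haveI : Module.Flat Γ(X, W) Γ(F, W) :=
    Groth.Agent.H71.QCoh.flat_sections_of_isFlatAt F hW (fun x _ => hFl x)
  haveI : Module.Flat Γ(X, W) Γ(G, ⊤) := Module.Flat.of_linearEquiv (eN F hW)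
  have hb1 : Function.Bijective (toO (R := Γ(X, W)) Γ(G, ⊤) U') :=
    toO_bijective_of_flat U' hR Γ(G, ⊤)
  have hb2 : Function.Bijective (G.presheaf.map (homOfLE (le_top : U' ≤ ⊤)).op) :=
    bijective_res_of_bijective_toO G U' hb1
  have hb3 : Function.Bijective
      (F.presheaf.map (hW.fromSpec.opensFunctor.map (homOfLE (le_top : U' ≤ ⊤))).op) := hb2
  refine bijective_of_eq F _ _ ?_ (image_top_eq hW) hb3
  show hW.fromSpec ''ᵁ (hW.fromSpec ⁻¹ᵁ U) = W'
  rw [Scheme.Hom.image_preimage_eq_opensRange_inf, hW.opensRange_fromSpec, hW']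

/-- Hartogs for flat quasi-coherent modules: restriction `Γ(V, F) → Γ(V ∩ U, F)` is bijective. -/
theorem bijective_res_flat (X : Scheme.{u}) [IsLocallyNoetherian X] (F : X.Modules)
    [F.IsQuasicoherent] (hFl : FlatMod.IsFlat F) (U : X.Opens)
    (hU : ∀ x : ↥X, x ∉ U → (2 : ℕ∞) ≤ LocCoh.depth (X.presheaf.stalk x) (X.presheaf.stalk x))
    (V V' : X.Opens) (hV' : V' = V ⊓ U) (hle : V' ≤ V) :
    Function.Bijective (F.presheaf.map (homOfLE hle).op) := by
  subst hV'
  have haff : ∀ (W : X.Opens), IsAffineOpen W →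
      Function.Bijective (rF X F (inf_le_left : W ⊓ U ≤ W)) :=
    fun W hW => bijective_res_affine_flat X F hFl U hU W hW (W ⊓ U) rfl inf_le_left
  exact ⟨rF_injective X F U haff V, rF_surjective X F U haff V⟩

/-- Under the Hartogs depth condition on `X`, the unit `F ⟶ j_* j^* F` is an isomorphism for every
flat quasi-coherent module `F`. -/
theorem isIso_unit_app_of_flat (X : Scheme.{u}) [IsLocallyNoetherian X] (F : X.Modules)
    [F.IsQuasicoherent] (hFl : FlatMod.IsFlat F) (U : X.Opens)
    (hU : ∀ x : ↥X, x ∉ U → (2 : ℕ∞) ≤ LocCoh.depth (X.presheaf.stalk x) (X.presheaf.stalk x)) :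
    IsIso ((Scheme.Modules.restrictAdjunction U.ι).unit.app F) := by
  rw [Scheme.Modules.Hom.isIso_iff_isIso_app]
  intro V
  rw [Scheme.Modules.restrictAdjunction_unit_app_app, ConcreteCategory.isIso_iff_bijective]
  apply bijective_res_flat X F hFl U hU V
  rw [Scheme.Hom.image_preimage_eq_opensRange_inf, Scheme.Opens.opensRange_ι, inf_comm]

/-- The normal case: `U` contains all points of codimension `≤ 1`. -/
theorem isIso_unit_app_of_flat_of_normal (S : Scheme.{u}) [IsLocallyNoetherian S]
    (hS : Pi1.IsNormalScheme S) (A : S.Modules) [A.IsQuasicoherent] (hAfl : FlatMod.IsFlat A)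
    (U : S.Opens) (hU : ∀ s : S, ringKrullDim (S.presheaf.stalk s) ≤ 1 → s ∈ U) :
    IsIso ((Scheme.Modules.restrictAdjunction U.ι).unit.app A) := by
  apply isIso_unit_app_of_flat S A hAfl U
  intro x hx
  obtain ⟨hdom, hic⟩ := hS x
  have hdim : (2 : WithBot ℕ∞) ≤ ringKrullDim (S.presheaf.stalk x) := by
    by_contra hcon
    apply hx
    apply hU
    rw [not_le] at hcon
    exact Order.le_of_lt_succ hcon
  exact NormalDepth.two_le_depth_of_normal _ hdim

end Groth.Agent.H71.FlatHartogs
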